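import Groth.Agent.H1PicInv.Rank1

/-!
# Picard groups along a bijection of ideals away from a special fibre
-/

set_option autoImplicit false
set_option linter.style.haveILetI false

universe u v w

open TensorProduct

namespace Groth.Agent.H1PicInv

/-- Ideals of `A` and of `L` comaximal with the special fibres correspond, and elements off the
special fibre of `L` come from `1 + mA` up to units. -/
structure Pack {A : Type u} (L : Type v) [CommRing A] [CommRing L] [Algebra A L] (mA : Ideal A) (mL : Ideal L) : Prop where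
  map_le : mA.map (algebraMap A L) ≤ mL
  ne_top : mL ≠ ⊤
  reg : ∀ M ∈ mA, ∀ r : A, (1 - M) * r = 0 → r = 0
  regL : ∀ M ∈ mA, ∀ r : L, algebraMap A L (1 - M) * r = 0 → r = 0
  good : ∀ l : L, l ∉ mL → ∃ (v : L) (M : A), IsUnit v ∧ M ∈ mA ∧ l = v * algebraMap A L (1 - M)
  comap_map : ∀ I : Ideal A, I ⊔ mA = ⊤ → (I.map (algebraMap A L)).comap (algebraMap A L) = I
  map_comap : ∀ I : Ideal L, I ⊔ mL = ⊤ →
    (I.comap (algebraMap A L)).map (algebraMap A L) = I ∧ I.comap (algebraMap A L) ⊔ mA = ⊤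

variable {A : Type u} {L : Type v} [CommRing A] [CommRing L] [Algebra A L] {mA : Ideal A} {mL : Ideal L}

theorem Pack.sub_mem_top (h : Pack L mA mL) {M : A} (hM : M ∈ mA) {I : Ideal A} (hI : 1 - M ∈ I) :
    I ⊔ mA = ⊤ := by
  rw [Ideal.eq_top_iff_one, ← sub_add_cancel (1 : A) M]
  exact Submodule.add_mem_sup hI hM

theorem Pack.exists_model (h : Pack L mA mL) (P : Type w) [AddCommGroup P] [Module L P] [Module.Invertible L P] :
    ∃ J : Ideal A, Module.Invertible A J ∧ Nonempty (L ⊗[A] J ≃ₗ[L] P) := by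
  obtain ⟨φ, y, hy⟩ : ∃ (φ : Module.Dual L P) (y : P), φ y ∉ mL := by
    by_contra hcon
    simp only [not_exists, not_not] at hcon
    obtain ⟨z, hz⟩ := (Module.Invertible.bijective (R := L) (M := P)).2 1
    have hall : ∀ z, contractLeft L P z ∈ mL := by
      intro z
      induction z using TensorProduct.induction_on with
      | zero => simp
      | tmul φ y => rw [contractLeft_apply]; exact hcon φ y
      | add x y hx hy => rw [map_add]; exact add_mem hx hy
    exact h.ne_top ((Ideal.eq_top_iff_one _).2 (hz ▸ hall z))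
  obtain ⟨v, M, hv, hM, hl⟩ := h.good (φ y) hy
  set Q := 1 - M
  have hvQ : ∀ r : L, v * algebraMap A L Q * r = 0 → r = 0 := fun r hr =>
    h.regL M hM r (hv.mul_right_eq_zero.1 (by rwa [← mul_assoc]))
  have hinj : Function.Injective φ := injective_of_regular φ y (hl ▸ hvQ)
  let I : Ideal L := LinearMap.range φ
  let eI : P ≃ₗ[L] I := LinearEquiv.ofInjective φ hinj
  have : Module.Invertible L I := Module.Invertible.congr eI
  obtain ⟨I', hlI', hII'⟩ := exists_mul_eq_span I (φ y) ⟨y, rfl⟩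
  have hspan : Ideal.span {φ y} = Ideal.span {algebraMap A L Q} := by
    rw [hl, Ideal.span_singleton_mul_left_unit hv]
  have hQI : algebraMap A L Q ∈ I := (Ideal.unit_mul_mem_iff_mem _ hv).1 (hl ▸ ⟨y, rfl⟩)
  have hQI' : algebraMap A L Q ∈ I' := (Ideal.unit_mul_mem_iff_mem _ hv).1 (hl ▸ hlI')
  have htop : ∀ {K : Ideal L}, algebraMap A L Q ∈ K → K ⊔ mL = ⊤ := fun {K} hK => by
    rw [Ideal.eq_top_iff_one, ← sub_add_cancel (1 : L) (algebraMap A L M),
      show 1 - algebraMap A L M = algebraMap A L Q by rw [map_sub, map_one]]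
    exact Submodule.add_mem_sup hK (h.map_le (Ideal.mem_map_of_mem _ hM))
  set J := I.comap (algebraMap A L)
  set J' := I'.comap (algebraMap A L)
  have hJI : J.map (algebraMap A L) = I := (h.map_comap I (htop hQI)).1
  have hJI' : J'.map (algebraMap A L) = I' := (h.map_comap I' (htop hQI')).1
  have hJJ : J * J' = Ideal.span {Q} := by
    have e : (J * J').map (algebraMap A L) = (Ideal.span {Q}).map (algebraMap A L) := by
      rw [Ideal.map_mul, hJI, hJI', hII', hspan, Ideal.map_span, Set.image_singleton]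
    rw [← h.comap_map (J * J') ?_, e, h.comap_map _ (h.sub_mem_top hM (Ideal.mem_span_singleton_self Q))]
    refine h.sub_mem_top (M := M + M - M * M) (sub_mem (add_mem hM hM) (Ideal.mul_mem_left _ _ hM)) ?_
    rw [show (1 : A) - (M + M - M * M) = Q * Q by ring]
    exact Ideal.mul_mem_mul (show Q ∈ J from hQI) (show Q ∈ J' from hQI')
  have hreg := h.reg M hM
  refine ⟨J, invertible_of_mul_eq hreg hJJ, ?_⟩
  obtain ⟨e⟩ := nonempty_baseChange_equiv hreg hJJ (S := L) (h.regL M hM)
  exact ⟨(e.trans (LinearEquiv.ofEq _ _ hJI)).trans eI.symm⟩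

theorem Pack.free_of_free (h : Pack L mA mL) (M₀ : Type w) [AddCommGroup M₀] [Module A M₀]
    [Module.Invertible A M₀] (hgen : ∃ (φ : Module.Dual A M₀) (y : M₀), 1 - φ y ∈ mA)
    (hfree : Module.Free L (L ⊗[A] M₀)) : Module.Free A M₀ := by
  obtain ⟨φ, y, hy⟩ := hgen
  set M := 1 - φ y
  have hQ : φ y = 1 - M := (sub_sub_cancel 1 (φ y)).symm
  have hreg := h.reg M hy
  have hinj : Function.Injective φ := injective_of_regular φ y (hQ ▸ hreg)
  let J : Ideal A := LinearMap.range φ
  let eJ : M₀ ≃ₗ[A] J := LinearEquiv.ofInjective φ hinj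
  have : Module.Invertible A J := Module.Invertible.congr eJ
  obtain ⟨J', -, hJJ⟩ := exists_mul_eq_span J (φ y) ⟨y, rfl⟩
  rw [hQ] at hJJ
  obtain ⟨e⟩ := nonempty_baseChange_equiv hreg hJJ (S := L) (h.regL M hy)
  have hQJ : 1 - M ∈ J := hQ ▸ ⟨y, rfl⟩
  let I : Ideal L := J.map (algebraMap A L)
  have : Module.Invertible L I := Module.Invertible.congr e
  obtain ⟨g⟩ := Module.Invertible.free_iff_linearEquiv.1
    (Module.Free.of_equiv ((LinearEquiv.baseChange A L M₀ J eJ).trans e))
  set l : L := ((g.symm 1 : I) : L)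
  have hI : I = Ideal.span {l} := by
    refine le_antisymm (fun x hx => ?_) ((Ideal.span_singleton_le_iff_mem _).2 (g.symm 1).2)
    refine Ideal.mem_span_singleton'.2 ⟨g ⟨x, hx⟩, ?_⟩
    have : g ⟨x, hx⟩ • g.symm 1 = (⟨x, hx⟩ : I) := by rw [← map_smul, smul_eq_mul, mul_one, g.symm_apply_apply]
    simpa using congrArg Subtype.val this
  have hl : l ∉ mL := by
    intro hl
    refine h.ne_top ((Ideal.eq_top_iff_one _).2 ?_)
    have h1 : algebraMap A L (1 - M) ∈ mL :=
      ((Ideal.span_singleton_le_iff_mem _).2 hl) (hI ▸ Ideal.mem_map_of_mem _ hQJ)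
    have := add_mem h1 (h.map_le (Ideal.mem_map_of_mem (algebraMap A L) hy))
    rwa [← map_add, sub_add_cancel, map_one] at this
  obtain ⟨v, M₁, hv, hM₁, hl'⟩ := h.good l hl
  have hJeq : J = Ideal.span {1 - M₁} := by
    rw [← h.comap_map J (h.sub_mem_top hy hQJ), show J.map (algebraMap A L) = I from rfl, hI, hl',
      Ideal.span_singleton_mul_left_unit hv, ← Set.image_singleton, ← Ideal.map_span,
      h.comap_map _ (h.sub_mem_top hM₁ (Ideal.mem_span_singleton_self _))]
  refine Module.Free.of_equiv ((LinearEquiv.ofBijective (LinearMap.toSpanSingleton A J ⟨1 - M₁, ?_⟩) ⟨?_, ?_⟩).trans eJ.symm)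
  · rw [hJeq]; exact Ideal.mem_span_singleton_self _
  · rw [injective_iff_map_eq_zero]
    intro c hc
    refine h.reg M₁ hM₁ c ?_
    have := congrArg Subtype.val hc
    simpa [mul_comm] using this
  · intro x
    obtain ⟨c, hc⟩ := Ideal.mem_span_singleton'.1 (hJeq.le x.2)
    exact ⟨c, Subtype.ext (by simpa using hc)⟩

end Groth.Agent.H1PicInv
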