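import Groth.Agent.H1PicInv.Generic
import Groth.Agent.S15773
import Groth.Agent.S1958

/-!
# `R[t⁻¹] → R{t}[1/t]` satisfies the hypotheses of the comparison of Picard groups
-/

set_option autoImplicit false
set_option linter.style.haveILetI false

universe u

open Polynomial IsLocalRing TensorProduct

namespace Groth.Agent.H1PicInv

variable {R : Type u} [CommRing R] [HenselianLocalRing R] {B : Type u} [CommRing B] [Algebra R B] [Algebra R[X] B]
  [IsScalarTower R R[X] B]
  (hB : Hens2.IsPairHenselization R[X] (Ideal.span {(X : R[X])}) B)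
  (ψ : R[X] →ₐ[R] Localization.Away (algebraMap R[X] B X))
  (hψ : ψ X * algebraMap B (Localization.Away (algebraMap R[X] B X)) (algebraMap R[X] B X) = 1)

theorem regular_one_sub {M : R[X]} (hM : M ∈ (maximalIdeal R).map (algebraMap R R[X])) (r : R[X])
    (h : (1 - M) * r = 0) : r = 0 := by
  have hu : IsUnit ((1 - M : R[X]) : PowerSeries R) := by
    rw [PowerSeries.isUnit_iff_constantCoeff, ← PowerSeries.coeff_zero_eq_constantCoeff_apply, Polynomial.coeff_coe]
    exact (S15773.coeff_of_sub_mem hM).1
  have h2 := congrArg (fun p : R[X] => (p : PowerSeries R)) h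
  simp only [Polynomial.coe_mul, Polynomial.coe_zero] at h2
  exact Polynomial.coe_inj.1 (by rw [hu.mul_right_eq_zero.1 h2, Polynomial.coe_zero])

include hB hψ in
theorem regular_psi {M : R[X]} (hM : M ∈ (maximalIdeal R).map (algebraMap R R[X]))
    (r : Localization.Away (algebraMap R[X] B X)) (h : ψ (1 - M) * r = 0) : r = 0 := by
  haveI := (S1958.result R[X] (Ideal.span {(X : R[X])}) B hB).1
  obtain ⟨h0, hm⟩ := S15773.coeff_of_sub_mem hM
  obtain ⟨n, f, a, ha, hP, -, hfn, hfQ, -⟩ := S15773.exists_reversed h0 hm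
  have hf : IsSMulRegular R[X] f := fun x y hxy => by
    refine hP.isRegular.left ?_
    simp only [smul_eq_mul] at hxy ⊢
    rw [mul_assoc, mul_assoc, hxy]
  have hfB := IsSMulRegular.of_flat (S := B) hf
  obtain ⟨⟨b, _, k, rfl⟩, hb⟩ := IsLocalization.surj (Submonoid.powers (algebraMap R[X] B X)) r
  have h1 : algebraMap B (Localization.Away (algebraMap R[X] B X)) (algebraMap R[X] B f * b) = 0 := by
    rw [map_mul, ← S15773.psi_mul_pow ψ hψ hfn, hfQ, ← hb]
    linear_combination (algebraMap B (Localization.Away (algebraMap R[X] B X)) (algebraMap R[X] B X) ^ n *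
      algebraMap B (Localization.Away (algebraMap R[X] B X)) (algebraMap R[X] B X ^ k)) * h
  obtain ⟨⟨_, j, rfl⟩, hj⟩ := (IsLocalization.map_eq_zero_iff (Submonoid.powers (algebraMap R[X] B X))
    (Localization.Away (algebraMap R[X] B X)) _).1 h1
  have h2 : algebraMap R[X] B X ^ j * b = 0 :=
    hfB.right_eq_zero_of_smul (by rw [smul_eq_mul, ← hj]; ring)
  have h3 : algebraMap B (Localization.Away (algebraMap R[X] B X)) b = 0 :=
    (IsLocalization.map_eq_zero_iff (Submonoid.powers (algebraMap R[X] B X)) _ _).2 ⟨⟨_, j, rfl⟩, h2⟩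
  rw [h3] at hb
  exact ((IsLocalization.map_units _ (⟨_, k, rfl⟩ : Submonoid.powers (algebraMap R[X] B X))).mul_left_eq_zero).1 hb

include hB hψ in
theorem exists_good {l : Localization.Away (algebraMap R[X] B X)}
    (hl : l ∉ (maximalIdeal R).map (algebraMap R (Localization.Away (algebraMap R[X] B X)))) :
    ∃ (v : Localization.Away (algebraMap R[X] B X)) (M : R[X]), IsUnit v ∧
      M ∈ (maximalIdeal R).map (algebraMap R R[X]) ∧ l = v * ψ (1 - M) := by
  obtain ⟨⟨b, _, N, rfl⟩, hb⟩ := IsLocalization.surj (Submonoid.powers (algebraMap R[X] B X)) l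
  obtain ⟨w, hw⟩ := IsLocalization.map_units (Localization.Away (algebraMap R[X] B X))
    (⟨_, N, rfl⟩ : Submonoid.powers (algebraMap R[X] B X))
  have hbm : b ∉ (maximalIdeal R).map (algebraMap R B) := fun hbm => hl <| by
    have h2 := Ideal.mem_map_of_mem (algebraMap B (Localization.Away (algebraMap R[X] B X))) hbm
    rw [Ideal.map_map, ← IsScalarTower.algebraMap_eq, ← hb] at h2
    exact (Ideal.mul_unit_mem_iff_mem _ (hw ▸ w.isUnit)).1 h2
  obtain ⟨P, u, hP, hlow, he⟩ := Weierstrass7.exists_prep hB hbm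
  refine ⟨↑w⁻¹ * algebraMap B (Localization.Away (algebraMap R[X] B X)) u *
    algebraMap B (Localization.Away (algebraMap R[X] B X)) (algebraMap R[X] B X) ^ P.natDegree,
    1 - reflect P.natDegree P, ?_, Ideal.mem_map_C_iff.2 fun i => ?_, ?_⟩
  · exact ((Units.isUnit _).mul (u.isUnit.map _)).mul ((IsLocalization.Away.algebraMap_isUnit _).pow _)
  · rw [coeff_sub, coeff_reflect, coeff_one]
    by_cases hi : i = 0
    · rw [if_pos hi, hi, revAt_le (Nat.zero_le _), Nat.sub_zero, hP.coeff_natDegree, sub_self]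
      exact zero_mem _
    rw [if_neg hi, zero_sub]
    refine neg_mem ?_
    by_cases hin : i ≤ P.natDegree
    · rw [revAt_le hin]; exact hlow _ (by omega)
    · rw [← revAtFun_eq, revAtFun, if_neg hin, coeff_eq_zero_of_natDegree_lt (by omega)]
      exact zero_mem _
  · rw [sub_sub_cancel, mul_assoc, mul_comm _ (ψ _), S15773.psi_mul_pow ψ hψ le_rfl, mul_assoc, ← map_mul,
      mul_comm (u : B), ← he, ← hb, ← hw]
    exact ((mul_comm _ _).trans (by rw [mul_assoc, Units.mul_inv, mul_one])).symm

include hB hψ in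
theorem pack :
    letI := ψ.toRingHom.toAlgebra
    Pack (A := R[X]) (Localization.Away (algebraMap R[X] B X)) ((maximalIdeal R).map (algebraMap R R[X]))
      ((maximalIdeal R).map (algebraMap R (Localization.Away (algebraMap R[X] B X)))) := by
  letI := ψ.toRingHom.toAlgebra
  obtain ⟨h1, h2⟩ := S15773.result R B hB ψ hψ
  refine ⟨?_, ?_, fun M hM => regular_one_sub hM, fun M hM => regular_psi hB ψ hψ hM,
    fun l hl => exists_good hB ψ hψ hl, fun I hI => (h1 I hI).1, fun I hI => h2 I hI⟩
  · rw [Ideal.map_map, show (algebraMap R[X] (Localization.Away (algebraMap R[X] B X))).comp (algebraMap R R[X]) =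
      algebraMap R _ from ψ.comp_algebraMap]
  · intro htop
    have h3 : (1 : Localization.Away (algebraMap R[X] B X)) ∈ ((maximalIdeal R).map (algebraMap R B)).map (algebraMap B _) := by
      rw [Ideal.map_map, ← IsScalarTower.algebraMap_eq, htop]; trivial
    obtain ⟨⟨⟨b, hb⟩, ⟨_, N, rfl⟩⟩, hbN⟩ :=
      (IsLocalization.mem_map_algebraMap_iff (Submonoid.powers (algebraMap R[X] B X)) _).1 h3
    rw [one_mul] at hbN
    obtain ⟨⟨_, j, rfl⟩, hj⟩ := (IsLocalization.eq_iff_exists (Submonoid.powers (algebraMap R[X] B X))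
      (Localization.Away (algebraMap R[X] B X))).1 hbN
    refine Weierstrass7.pow_notMem hB (j + N) ?_
    rw [pow_add]
    dsimp only at hj
    rw [hj]
    exact Ideal.mul_mem_left _ _ hb

theorem exists_generator (M : Type u) [AddCommGroup M] [Module R[X] M] [Module.Invertible R[X] M] :
    ∃ (φ : Module.Dual R[X] M) (y : M), 1 - φ y ∈ (maximalIdeal R).map (algebraMap R R[X]) := by
  let q : R[X] →+* (ResidueField R)[X] := Polynomial.mapRingHom (residue R)
  letI := q.toAlgebra
  have hqs : Function.Surjective q := Polynomial.map_surjective _ residue_surjective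
  have : Module.Free (ResidueField R)[X] ((ResidueField R)[X] ⊗[R[X]] M) :=
    Module.free_of_finite_type_torsion_free'
  obtain ⟨g⟩ := Module.Invertible.free_iff_linearEquiv.1 this
  let f : M →ₗ[R[X]] (ResidueField R)[X] :=
    (g.toLinearMap.restrictScalars R[X]) ∘ₗ TensorProduct.mk R[X] (ResidueField R)[X] M 1
  obtain ⟨φ, hφ⟩ := Module.projective_lifting_property (Algebra.linearMap R[X] (ResidueField R)[X]) f hqs
  obtain ⟨y, hy⟩ := TensorProduct.mk_surjective R[X] M (ResidueField R)[X] hqs (g.symm 1)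
  refine ⟨φ, y, ?_⟩
  have h1 : q (φ y) = 1 := by
    have := LinearMap.congr_fun hφ y
    simp only [LinearMap.comp_apply, Algebra.linearMap_apply, f, LinearMap.coe_restrictScalars,
      LinearEquiv.coe_coe] at this
    rw [show q (φ y) = _ from this, hy, g.apply_symm_apply]
  rw [Polynomial.algebraMap_eq, Ideal.mem_map_C_iff]
  intro i
  rw [← residue_eq_zero_iff, coeff_sub, map_sub]
  have := congrArg (fun p => p.coeff i) h1
  simp only [q, Polynomial.coe_mapRingHom, Polynomial.coeff_map] at this
  rw [this]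
  simp [coeff_one, apply_ite (residue R)]

end Groth.Agent.H1PicInv
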