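import Mathlib

/-!
# Invertible ideals containing a regular element
-/

set_option autoImplicit false
set_option linter.style.haveILetI false

universe u v w

open TensorProduct

namespace Groth.Agent.H1PicInv

variable {R : Type u} [CommRing R]

section Module

variable {M : Type v} [AddCommGroup M] [Module R M] [Module.Invertible R M]

theorem smul_comm_dual (φ : M →ₗ[R] R) (x y : M) : φ x • y = φ y • x := by
  have h := congrArg (fun z => TensorProduct.lid R M (LinearMap.rTensor M φ z))
    (Module.Invertible.tmul_comm (R := R) (M := M) (m₁ := x) (m₂ := y))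
  simpa using h

theorem smul_eq_zero_of_regular {l : R} (hl : ∀ r : R, l * r = 0 → r = 0) {x : M} (h : l • x = 0) : x = 0 := by
  obtain ⟨s, hs⟩ := Module.Projective.out (R := R) (P := M)
  have h1 : s x = 0 := by
    ext i
    have := congrArg (fun z => s z i) h
    simp only [map_smul, map_zero, Finsupp.smul_apply, Finsupp.zero_apply, smul_eq_mul] at this
    exact hl _ this
  rw [← hs x, h1, map_zero]

theorem injective_of_regular (φ : M →ₗ[R] R) (y : M) (hl : ∀ r : R, φ y * r = 0 → r = 0) :
    Function.Injective φ := by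
  rw [injective_iff_map_eq_zero]
  intro x hx
  refine smul_eq_zero_of_regular hl ?_
  rw [← smul_comm_dual φ x y, hx, zero_smul]

/-- An invertible ideal containing `l` has an inverse relative to `l`. -/
theorem exists_mul_eq_span (I : Ideal R) [Module.Invertible R I] (l : R) (hl : l ∈ I) :
    ∃ I' : Ideal R, l ∈ I' ∧ I * I' = Ideal.span {l} := by
  let ev : Module.Dual R I →ₗ[R] R := LinearMap.applyₗ (⟨l, hl⟩ : I)
  refine ⟨LinearMap.range ev, ⟨I.subtype, rfl⟩, le_antisymm ?_ ?_⟩
  · refine Ideal.mul_le.2 fun x hx z hz => ?_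
    obtain ⟨ξ, rfl⟩ := hz
    have h := congrArg Subtype.val (smul_comm_dual ξ ⟨l, hl⟩ ⟨x, hx⟩)
    simp only [Submodule.coe_smul, smul_eq_mul] at h
    show x * ξ ⟨l, hl⟩ ∈ _
    rw [mul_comm, h]
    exact Ideal.mul_mem_left _ _ (Ideal.mem_span_singleton_self l)
  · rw [Ideal.span_singleton_le_iff_mem]
    obtain ⟨z, hz⟩ := (Module.Invertible.bijective (R := R) (M := I)).2 1
    suffices ∀ z, contractLeft R I z * l ∈ I * (LinearMap.range ev : Ideal R) by simpa [hz] using this z
    intro z
    induction z using TensorProduct.induction_on with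
    | zero => simp
    | tmul ξ x =>
      rw [contractLeft_apply]
      have h := congrArg Subtype.val (smul_comm_dual ξ x ⟨l, hl⟩)
      simp only [Submodule.coe_smul, smul_eq_mul] at h
      rw [h, mul_comm (ξ ⟨l, hl⟩)]
      exact Ideal.mul_mem_mul x.2 ⟨ξ, rfl⟩
    | add x y hx hy => rw [map_add, add_mul]; exact add_mem hx hy

end Module

variable {J J' : Ideal R} {Q : R}

/-- Multiplication on `N ⊗ J` is injective. -/
theorem mul_injective (hQ : ∀ r : R, Q * r = 0 → r = 0) (hJ : J * J' = Ideal.span {Q})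
    {S : Type v} [CommRing S] [Algebra R S] (hQS : ∀ s : S, algebraMap R S Q * s = 0 → s = 0)
    {N : Type w} [AddCommGroup N] [Module R N] (ν : N →ₗ[R] S) (hν : Function.Injective ν)
    (z : N ⊗[R] J) (hz : TensorProduct.lift ((LinearMap.mul R S).compl₁₂ ν ((Algebra.linearMap R S).comp J.subtype)) z = 0) :
    z = 0 := by
  classical
  set μ : N ⊗[R] J →ₗ[R] S := TensorProduct.lift ((LinearMap.mul R S).compl₁₂ ν ((Algebra.linearMap R S).comp J.subtype))
  have hmem : Q ∈ J * J' := by rw [hJ]; exact Ideal.mem_span_singleton_self Q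
  obtain ⟨n, a, b, ha, hb, hab⟩ : ∃ (n : ℕ) (a b : Fin n → R), (∀ i, a i ∈ J) ∧ (∀ i, b i ∈ J') ∧ ∑ i, a i * b i = Q := by
    refine Submodule.mul_induction_on hmem (fun x hx y hy => ⟨1, ![x], ![y], ?_, ?_, by simp⟩)
      (fun x y ⟨n, a, b, ha, hb, h⟩ ⟨m, a', b', ha', hb', h'⟩ =>
        ⟨n + m, Fin.append a a', Fin.append b b', ?_, ?_, ?_⟩)
    · intro i; fin_cases i; exact hx
    · intro i; fin_cases i; exact hy
    · intro i; refine Fin.addCases (fun i => ?_) (fun i => ?_) i <;> simp [ha, ha']
    · intro i; refine Fin.addCases (fun i => ?_) (fun i => ?_) i <;> simp [hb, hb']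
    · rw [Fin.sum_univ_add]; simp [h, h']
  have hw : ∀ (i : Fin n) (x : J), ∃ c, c * Q = x * b i := fun i x => by
    have : (x : R) * b i ∈ J * J' := Ideal.mul_mem_mul x.2 (hb i)
    rwa [hJ, Ideal.mem_span_singleton'] at this
  choose w hw using hw
  have hcancel : ∀ c d : R, c * Q = d * Q → c = d := fun c d h =>
    sub_eq_zero.1 (hQ _ (by rw [mul_sub, mul_comm Q c, h, mul_comm, sub_self]))
  let wl : Fin n → J →ₗ[R] R := fun i =>
    { toFun := w i
      map_add' := fun x y => hcancel _ _ (by rw [add_mul, hw, hw, hw]; simp [add_mul])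
      map_smul' := fun r x => hcancel _ _ (by rw [RingHom.id_apply, smul_eq_mul, mul_assoc, hw, hw]; simp [mul_assoc]) }
  let coef : Fin n → N ⊗[R] J →ₗ[R] N := fun i =>
    (TensorProduct.rid R N).toLinearMap ∘ₗ LinearMap.lTensor N (wl i)
  have h1 : ∀ z, ∑ i, coef i z ⊗ₜ[R] (⟨a i, ha i⟩ : J) = z := by
    intro z
    induction z using TensorProduct.induction_on with
    | zero => simp
    | tmul m x =>
      have hx : ∑ i, w i x * a i = (x : R) := hcancel _ _ (by
        rw [Finset.sum_mul, ← hab, Finset.mul_sum]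
        refine Finset.sum_congr rfl fun i _ => ?_
        rw [mul_right_comm, hab, hw]; ring)
      have hx' : ∑ i, w i x • (⟨a i, ha i⟩ : J) = x := Subtype.ext (by simpa using hx)
      conv_rhs => rw [← hx', TensorProduct.tmul_sum]
      refine Finset.sum_congr rfl fun i _ => ?_
      simp [coef, wl, TensorProduct.smul_tmul]
    | add x y hx hy => simp [map_add, TensorProduct.add_tmul, Finset.sum_add_distrib, hx, hy]
  have h2 : ∀ i z, algebraMap R S Q * ν (coef i z) = μ z * algebraMap R S (b i) := by
    intro i z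
    induction z using TensorProduct.induction_on with
    | zero => simp
    | tmul m x =>
      simp only [coef, wl, μ, LinearMap.coe_comp, LinearEquiv.coe_coe, Function.comp_apply, LinearMap.lTensor_tmul,
        LinearMap.coe_mk, AddHom.coe_mk, TensorProduct.rid_tmul, map_smul, TensorProduct.lift.tmul,
        LinearMap.compl₁₂_apply, LinearMap.mul_apply', Algebra.linearMap_apply, Submodule.coe_subtype,
        Algebra.smul_def]
      rw [← mul_assoc, mul_assoc (ν m), ← map_mul, ← map_mul, ← hw, mul_comm Q, mul_comm]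
    | add x y hx hy => rw [map_add, map_add, map_add, mul_add, add_mul, hx, hy]
  rw [← h1 z]
  refine Finset.sum_eq_zero fun i _ => ?_
  have : coef i z = 0 := hν (by rw [map_zero]; exact hQS _ (by rw [h2, hz, zero_mul]))
  rw [this, TensorProduct.zero_tmul]

theorem invertible_of_mul_eq (hQ : ∀ r : R, Q * r = 0 → r = 0) (hJ : J * J' = Ideal.span {Q}) :
    Module.Invertible R J := by
  set μ : J' ⊗[R] J →ₗ[R] R :=
    TensorProduct.lift ((LinearMap.mul R R).compl₁₂ J'.subtype ((Algebra.linearMap R R).comp J.subtype))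
  have hinj : ∀ z, μ z = 0 → z = 0 :=
    mul_injective hQ hJ (S := R) (fun s => hQ s) (N := J') J'.subtype Subtype.val_injective
  have hrange : ∀ z, μ z ∈ Ideal.span {Q} := by
    intro z
    induction z using TensorProduct.induction_on with
    | zero => simp
    | tmul m x =>
      rw [← hJ, Ideal.mul_comm]
      simp only [μ, TensorProduct.lift.tmul, LinearMap.compl₁₂_apply, LinearMap.coe_comp, Function.comp_apply,
        LinearMap.mul_apply', Algebra.linearMap_apply, Submodule.coe_subtype, Algebra.algebraMap_self, RingHom.id_apply]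
      exact Ideal.mul_mem_mul m.2 x.2
    | add x y hx hy => rw [map_add]; exact add_mem hx hy
  obtain ⟨z₀, hz₀⟩ : ∃ z, μ z = Q := by
    have hmem : Q ∈ J * J' := by rw [hJ]; exact Ideal.mem_span_singleton_self Q
    refine Submodule.mul_induction_on hmem (fun x hx y hy => ⟨⟨y, hy⟩ ⊗ₜ ⟨x, hx⟩, ?_⟩)
      (fun x y ⟨z, hz⟩ ⟨z', hz'⟩ => ⟨z + z', by rw [map_add, hz, hz']⟩)
    simp [μ, mul_comm]
  refine Module.Invertible.right (M := J') (LinearEquiv.ofBijective (LinearMap.toSpanSingleton R _ z₀) ⟨?_, ?_⟩).symm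
  · rw [injective_iff_map_eq_zero]
    intro c hc
    have h : μ (c • z₀) = 0 := by
      rw [show c • z₀ = 0 from hc, map_zero]
    rw [map_smul, hz₀, smul_eq_mul, mul_comm] at h
    exact hQ c h
  · intro z
    obtain ⟨c, hc⟩ := Ideal.mem_span_singleton'.1 (hrange z)
    exact ⟨c, sub_eq_zero.1 (hinj _ (by
      rw [map_sub, LinearMap.toSpanSingleton_apply, map_smul, hz₀, smul_eq_mul, hc, sub_self]))⟩

/-- Base change of such an ideal. -/
theorem nonempty_baseChange_equiv (hQ : ∀ r : R, Q * r = 0 → r = 0) (hJ : J * J' = Ideal.span {Q})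
    {S : Type v} [CommRing S] [Algebra R S] (hQS : ∀ s : S, algebraMap R S Q * s = 0 → s = 0) :
    Nonempty (S ⊗[R] J ≃ₗ[S] (J.map (algebraMap R S) : Ideal S)) := by
  let g : S ⊗[R] J →ₗ[S] S :=
    (TensorProduct.AlgebraTensorModule.rid R S S).toLinearMap ∘ₗ (J.subtype).baseChange S
  have hinj : Function.Injective g := by
    rw [injective_iff_map_eq_zero]
    intro z hz
    refine mul_injective hQ hJ hQS (N := S) LinearMap.id (fun a b h => h) z ?_
    rw [← hz]
    refine LinearMap.congr_fun (f := _) (g := g.restrictScalars R) ?_ z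
    ext x y
    simp [g, Algebra.smul_def, mul_comm]
  have hrange : LinearMap.range g = J.map (algebraMap R S) := by
    refine le_antisymm ?_ ?_
    · rintro _ ⟨z, rfl⟩
      induction z using TensorProduct.induction_on with
      | zero => simp
      | tmul s x =>
        simp only [g, LinearMap.coe_comp, LinearEquiv.coe_coe, Function.comp_apply, LinearMap.baseChange_tmul,
          Submodule.coe_subtype, TensorProduct.AlgebraTensorModule.rid_tmul, Algebra.smul_def]
        exact Ideal.mul_mem_right _ _ (Ideal.mem_map_of_mem _ x.2)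
      | add x y hx hy => rw [map_add]; exact add_mem hx hy
    · rw [Ideal.map_le_iff_le_comap]
      exact fun x hx => ⟨1 ⊗ₜ ⟨x, hx⟩, by simp [g, Algebra.smul_def]⟩
  exact ⟨(LinearEquiv.ofInjective g hinj).trans (LinearEquiv.ofEq _ _ hrange)⟩

end Groth.Agent.H1PicInv
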