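import Mathlib
import Groth.Agent.HTopAwn.Base

/-!
# Invertible ideals of `R[X]` over a seminormal local ring are principal (Swan, Coquand)
-/

set_option autoImplicit false
set_option linter.style.haveILetI false

universe u v

open Polynomial

namespace Groth.Agent.H1PicInv

/-- Quotients by polynomials with unit constant term stay in a subalgebra. -/
theorem coeff_mem_of_mul {R : Type u} {K : Type v} [CommRing R] [CommRing K] [Algebra R K] (S : Subalgebra R K)
    {f q : K[X]} (hf : ∀ i, f.coeff i ∈ S) {u : K} (hu : u ∈ S) (huf : u * f.coeff 0 = 1)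
    (hfq : ∀ i, (f * q).coeff i ∈ S) (i : ℕ) : q.coeff i ∈ S := by
  induction i using Nat.strong_induction_on with
  | _ i ih =>
    have h := hfq i
    rw [coeff_mul, Finset.Nat.sum_antidiagonal_eq_sum_range_succ (fun a b => f.coeff a * q.coeff b) i,
      Finset.sum_range_succ', Nat.sub_zero] at h
    have h1 : ∑ a ∈ Finset.range i, f.coeff (a + 1) * q.coeff (i - (a + 1)) ∈ S :=
      sum_mem fun a ha => S.mul_mem (hf _) (ih _ (by have := Finset.mem_range.1 ha; omega))
    have h2 : f.coeff 0 * q.coeff i ∈ S := by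
      have := sub_mem h h1
      rwa [add_sub_cancel_left] at this
    have := S.mul_mem hu h2
    rwa [← mul_assoc, huf, one_mul] at this

theorem exists_map_eq {R : Type u} {K : Type v} [CommRing R] [CommRing K] [Algebra R K] (S : Subalgebra R K)
    (p : K[X]) (hp : ∀ i, p.coeff i ∈ S) : ∃ p' : (↥S)[X], p'.map S.val.toRingHom = p := by
  refine (Polynomial.mem_lifts p).1 ((lifts_iff_coeff_lifts p).2 fun i => ⟨⟨_, hp i⟩, rfl⟩)

/-- Seminormal rings contain elements all of whose large powers they contain. -/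
theorem mem_bot_of_pow_mem {R : Type u} {K : Type v} [CommRing R] [CommRing K] [Algebra R K] [IsReduced K]
    (hR : HTop.IsSeminormalRing R) (hinj : Function.Injective (algebraMap R K)) (z : K) :
    ∀ N : ℕ, (∀ k, N ≤ k → z ^ k ∈ (⊥ : Subalgebra R K)) → z ∈ (⊥ : Subalgebra R K) := by
  intro N
  induction N using Nat.strong_induction_on with
  | _ N ih =>
    intro h
    by_cases hN : N ≤ 1
    · simpa using h 1 hN
    refine ih (N - 1) (by omega) fun k hk => ?_
    by_cases hk' : N ≤ k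
    · exact h k hk'
    obtain ⟨x, hx⟩ := Algebra.mem_bot.1 (h (k * 2) (by omega))
    obtain ⟨y, hy⟩ := Algebra.mem_bot.1 (h (k * 3) (by omega))
    obtain ⟨a, ⟨ha1, ha2⟩, -⟩ := hR x y (hinj (by rw [map_pow, map_pow, hx, hy]; ring))
    set w := z ^ k
    set A := algebraMap R K a
    have e2 : A ^ 2 = w ^ 2 := by rw [← map_pow, ← ha1, hx, pow_mul]
    have e3 : A ^ 3 = w ^ 3 := by rw [← map_pow, ← ha2, hy, pow_mul]
    have h0 : (A - w) ^ 3 = 0 := by linear_combination (-3 * w - 3 * A) * e2 + 4 * e3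
    exact Algebra.mem_bot.2 ⟨a, sub_eq_zero.1 ((pow_eq_zero_iff three_ne_zero).1 h0)⟩

theorem ext_pi {ι : Type v} {F : ι → Type u} [∀ i, CommRing (F i)] {p q : (∀ i, F i)[X]}
    (h : ∀ i, p.map (Pi.evalRingHom F i) = q.map (Pi.evalRingHom F i)) : p = q := by
  refine Polynomial.ext fun n => funext fun i => ?_
  simpa [coeff_map] using congrArg (fun p => p.coeff n) (h i)

theorem exists_ofPi {ι : Type v} {F : ι → Type u} [∀ i, CommRing (F i)] (n : ℕ) (p : ∀ i, (F i)[X])
    (hp : ∀ i, (p i).natDegree ≤ n) :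
    ∃ q : (∀ i, F i)[X], q.natDegree ≤ n ∧ ∀ i, q.map (Pi.evalRingHom F i) = p i := by
  refine ⟨∑ k ∈ Finset.range (n + 1), C (fun i => (p i).coeff k) * X ^ k, ?_, fun i => ?_⟩
  · exact natDegree_sum_le_of_forall_le _ _ fun k hk =>
      (natDegree_C_mul_X_pow_le _ _).trans (Nat.le_of_lt_succ (Finset.mem_range.1 hk))
  · simp only [Polynomial.map_sum, Polynomial.map_mul, map_C, Polynomial.map_pow, map_X, Pi.evalRingHom_apply]
    exact ((p i).as_sum_range_C_mul_X_pow' (Nat.lt_succ_of_le (hp i))).symm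

/-- In a domain, containments `I ≤ (f)`, `I' ≤ (f')` with `I * I' = (f * f')` are equalities. -/
theorem eq_span_of_le {A : Type u} [CommRing A] {I I' : Ideal A} {f f' : A}
    (hreg : ∀ x, f' * x = 0 → x = 0) (hI : I ≤ Ideal.span {f}) (hI' : I' ≤ Ideal.span {f'})
    (h : I * I' = Ideal.span {f * f'}) : I = Ideal.span {f} := by
  refine le_antisymm hI ((Ideal.span_singleton_le_iff_mem _).2 ?_)
  have hmem : f * f' ∈ I * Ideal.span {f'} :=
    Ideal.mul_mono le_rfl hI' (h ▸ Ideal.mem_span_singleton_self _)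
  obtain ⟨j, hj, hje⟩ := Ideal.mem_mul_span_singleton.1 hmem
  have : j - f = 0 := hreg _ (by linear_combination hje)
  rwa [← sub_eq_zero.1 this]

variable {R : Type u} [CommRing R]

theorem exists_normalized {F : Type u} [Field F] (φ : R →+* F) (J J' : Ideal R[X]) (Q : R[X])
    (hQ0 : IsUnit (Q.coeff 0)) (hJJ : J * J' = Ideal.span {Q}) :
    ∃ h h' : F[X], h.coeff 0 = 1 ∧ h.natDegree ≤ Q.natDegree ∧ h'.natDegree ≤ Q.natDegree ∧ Q.map φ = h * h' ∧
      J.map (mapRingHom φ) = Ideal.span {h} ∧ J'.map (mapRingHom φ) ≤ Ideal.span {h'} := by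
  have hQne : (Q.map φ).coeff 0 ≠ 0 := by rw [coeff_map]; exact (hQ0.map φ).ne_zero
  obtain ⟨g, hg⟩ : ∃ g, J.map (mapRingHom φ) = Ideal.span {g} :=
    ⟨_, (Ideal.span_singleton_generator (J.map (mapRingHom φ))).symm⟩
  have hQJ : Q ∈ J := Ideal.mul_le_left (I := J) (J := J') (by rw [hJJ]; exact Ideal.mem_span_singleton_self Q)
  have hQg : mapRingHom φ Q ∈ Ideal.span {g} := by rw [← hg]; exact Ideal.mem_map_of_mem (mapRingHom φ) hQJ
  obtain ⟨c, hc⟩ := Ideal.mem_span_singleton.1 hQg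
  rw [coe_mapRingHom] at hc
  have hg0 : g.coeff 0 ≠ 0 := fun h0 => hQne (by rw [hc, mul_coeff_zero, h0, zero_mul])
  have hu : IsUnit (C (g.coeff 0)⁻¹ : F[X]) := isUnit_C.2 (isUnit_iff_ne_zero.2 (inv_ne_zero hg0))
  have e : Q.map φ = (C (g.coeff 0)⁻¹ * g) * (C (g.coeff 0) * c) := by
    rw [show (C (g.coeff 0)⁻¹ * g) * (C (g.coeff 0) * c) = (C (g.coeff 0)⁻¹ * C (g.coeff 0)) * (g * c) by ring,
      ← map_mul, inv_mul_cancel₀ hg0, map_one, one_mul, hc]
  have hQ' : Q.map φ ≠ 0 := fun h => hQne (by rw [h, coeff_zero])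
  have hne : C (g.coeff 0)⁻¹ * g ≠ 0 ∧ C (g.coeff 0) * c ≠ 0 := by
    rw [← mul_ne_zero_iff, ← e]; exact hQ'
  have hdeg := natDegree_mul hne.1 hne.2
  rw [← e] at hdeg
  have hle : (Q.map φ).natDegree ≤ Q.natDegree := natDegree_map_le
  refine ⟨_, _, ?_, ?_, ?_, e, ?_, fun x hx => ?_⟩
  · rw [coeff_C_mul, inv_mul_cancel₀ hg0]
  · omega
  · omega
  · rw [hg, Ideal.span_singleton_mul_left_unit hu]
  · have h1 : (C (g.coeff 0)⁻¹ * g) * x ∈ Ideal.span {(C (g.coeff 0)⁻¹ * g) * (C (g.coeff 0) * c)} := by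
      rw [← e, show Q.map φ = mapRingHom φ Q from rfl, ← Set.image_singleton, ← Ideal.map_span, ← hJJ,
        Ideal.map_mul, hg]
      exact Ideal.mul_mem_mul (Ideal.mul_mem_left _ _ (Ideal.mem_span_singleton_self g)) hx
    obtain ⟨d, hd⟩ := Ideal.mem_span_singleton.1 h1
    exact Ideal.mem_span_singleton.2 ⟨d, mul_left_cancel₀ hne.1 (by rw [hd]; ring)⟩

theorem regular_of_coeff_zero {A : Type u} [CommRing A] {f : A[X]} (hf : IsUnit (f.coeff 0)) (x : A[X])
    (hx : f * x = 0) : x = 0 := by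
  have hu : IsUnit ((f : PowerSeries A)) := by
    rw [PowerSeries.isUnit_iff_constantCoeff, ← PowerSeries.coeff_zero_eq_constantCoeff_apply, Polynomial.coeff_coe]
    exact hf
  have h2 := congrArg (fun p : A[X] => (p : PowerSeries A)) hx
  simp only [Polynomial.coe_mul, Polynomial.coe_zero] at h2
  exact Polynomial.coe_inj.1 (by rw [hu.mul_right_eq_zero.1 h2, Polynomial.coe_zero])

theorem exists_map_factor {ι : Type u} {F : ι → Type u} [∀ i, Field (F i)] [∀ i, Algebra R (F i)] (x : R[X])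
    (f : (∀ i, F i)[X]) (hf0 : ∀ i, (f.map (Pi.evalRingHom F i)).coeff 0 ≠ 0)
    (h : ∀ i, f.map (Pi.evalRingHom F i) ∣ x.map (algebraMap R (F i))) :
    ∃ q : (∀ i, F i)[X], x.map (algebraMap R (∀ i, F i)) = f * q := by
  have h1 : ∀ i, ∃ q : (F i)[X], q.natDegree ≤ x.natDegree ∧
      x.map (algebraMap R (F i)) = f.map (Pi.evalRingHom F i) * q := by
    intro i
    obtain ⟨q, hq⟩ := h i
    refine ⟨q, ?_, hq⟩
    by_cases hq0 : q = 0
    · simp [hq0]
    have hh : f.map (Pi.evalRingHom F i) ≠ 0 := fun e => hf0 i (by rw [e, coeff_zero])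
    have := natDegree_mul hh hq0
    rw [← hq] at this
    have hle : (x.map (algebraMap R (F i))).natDegree ≤ x.natDegree := natDegree_map_le
    omega
  choose q hq hq' using h1
  obtain ⟨qq, -, hqq⟩ := exists_ofPi x.natDegree q hq
  exact ⟨qq, ext_pi fun i => by
    rw [Polynomial.map_map, show (Pi.evalRingHom F i).comp (algebraMap R (∀ i, F i)) = algebraMap R (F i) from rfl,
      hq', Polynomial.map_mul, hqq]⟩

theorem exists_factor [IsReduced R] (J J' : Ideal R[X]) (Q : R[X])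
    (hQ0 : IsUnit (Q.coeff 0)) (hJJ : J * J' = Ideal.span {Q}) :
    ∃ (K : Type u) (_ : CommRing K) (_ : Algebra R K), IsReduced K ∧ Function.Injective (algebraMap R K) ∧
      ∃ f f' : K[X], f.coeff 0 = 1 ∧ f * f' = Q.map (algebraMap R K) ∧ (∀ i, IsIntegral R (f.coeff i)) ∧
        (∀ x ∈ J, ∃ q, x.map (algebraMap R K) = f * q) ∧ ∀ x ∈ J', ∃ q, x.map (algebraMap R K) = f' * q := by
  classical
  let ι : Type u := ↥(minimalPrimes R)
  haveI : ∀ P : ι, P.1.IsPrime := fun P => Ideal.minimalPrimes_isPrime P.2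
  let F : ι → Type u := fun P => FractionRing (R ⧸ P.1)
  refine ⟨∀ P, F P, inferInstance, inferInstance, ⟨fun x ⟨n, hn⟩ => funext fun P =>
    IsReduced.eq_zero (x P) ⟨n, congrFun hn P⟩⟩, ?_, ?_⟩
  · rw [injective_iff_map_eq_zero]
    intro r hr
    have h1 : r ∈ sInf ((⊥ : Ideal R).minimalPrimes) := by
      refine Submodule.mem_sInf.2 fun (P : Ideal R) hP => ?_
      haveI : P.IsPrime := Ideal.minimalPrimes_isPrime hP
      have h2 : algebraMap R (FractionRing (R ⧸ P)) r = 0 := congrFun hr ⟨P, hP⟩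
      rw [IsScalarTower.algebraMap_apply R (R ⧸ P) (FractionRing (R ⧸ P)), map_eq_zero_iff _
        (IsFractionRing.injective (R ⧸ P) (FractionRing (R ⧸ P)))] at h2
      exact Ideal.Quotient.eq_zero_iff_mem.1 h2
    rw [Ideal.sInf_minimalPrimes, Ideal.radical_bot_of_isReduced, Ideal.mem_bot] at h1
    exact h1
  choose h h' hh0 hhn hhn' hhQ hhJ hhJ' using fun P : ι =>
    exists_normalized (algebraMap R (F P)) J J' Q hQ0 hJJ
  obtain ⟨f, hfn, hf⟩ := exists_ofPi Q.natDegree h hhn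
  obtain ⟨f', hfn', hf'⟩ := exists_ofPi Q.natDegree h' hhn'
  have hfQ : f * f' = Q.map (algebraMap R (∀ P, F P)) := ext_pi fun P => by
    rw [Polynomial.map_mul, hf, hf', ← hhQ, Polynomial.map_map]
    rfl
  have hf0 : f.coeff 0 = 1 := funext fun P => by
    have := congrArg (fun p => p.coeff 0) (hf P)
    rw [coeff_map, hh0] at this
    exact this
  obtain ⟨v, hv⟩ := hQ0
  refine ⟨f, f', hf0, hfQ, fun i => ?_, fun x hx => exists_map_factor x f (fun P => ?_) fun P => ?_,
    fun x hx => exists_map_factor x f' (fun P => ?_) fun P => ?_⟩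
  · rcases subsingleton_or_nontrivial (∀ P, F P) with hK | hK
    · rw [Subsingleton.elim (f.coeff i) 0]; exact isIntegral_zero
    have htop : (reflect Q.natDegree f).coeff Q.natDegree = 1 := by
      rw [coeff_reflect, revAt_le le_rfl, Nat.sub_self, hf0]
    have hmon : (reflect Q.natDegree f).Monic := monic_of_natDegree_le_of_coeff_eq_one Q.natDegree
      (natDegree_reflect_le.trans (max_le le_rfl hfn)) htop
    have hp : (C (↑v⁻¹ : R) * reflect (Q.natDegree + Q.natDegree) Q).Monic := by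
      refine monic_of_natDegree_le_of_coeff_eq_one (Q.natDegree + Q.natDegree) ((natDegree_C_mul_le _ _).trans
        (natDegree_reflect_le.trans (max_le le_rfl (by omega)))) ?_
      rw [coeff_C_mul, coeff_reflect, revAt_le le_rfl, Nat.sub_self, ← hv, Units.inv_mul]
    have hdvd : reflect Q.natDegree f ∣
        (C (↑v⁻¹ : R) * reflect (Q.natDegree + Q.natDegree) Q).map (algebraMap R (∀ P, F P)) := by
      refine ⟨C (algebraMap R (∀ P, F P) ↑v⁻¹) * reflect Q.natDegree f', ?_⟩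
      rw [Polynomial.map_mul, map_C, ← reflect_map, ← hfQ, reflect_mul f f' hfn hfn']
      ring
    have h1 := isIntegral_coeff_of_dvd _ _ hp hmon hdvd (revAt Q.natDegree i)
    rwa [coeff_reflect, revAt_invol] at h1
  · rw [hf, hh0]; exact one_ne_zero
  · rw [hf]
    exact Ideal.mem_span_singleton.1 ((hhJ P) ▸ Ideal.mem_map_of_mem (mapRingHom _) hx)
  · intro e
    have h2 := congrArg (fun p => p.coeff 0) (hhQ P)
    rw [mul_coeff_zero, ← hf', e, mul_zero, coeff_map] at h2
    exact ((hv ▸ v.isUnit : IsUnit (Q.coeff 0)).map (algebraMap R (F P))).ne_zero h2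
  · rw [hf']
    exact Ideal.mem_span_singleton.1 (hhJ' P (Ideal.mem_map_of_mem (mapRingHom _) hx))

theorem map_eq_span_of_subalgebra {K : Type u} [CommRing K] [Algebra R K] (T : Subalgebra R K)
    {J J' : Ideal R[X]} {Q : R[X]} (hQ0 : IsUnit (Q.coeff 0)) (hJJ : J * J' = Ideal.span {Q})
    {f f' : K[X]} (hf0 : f.coeff 0 = 1) (hfQ : f * f' = Q.map (algebraMap R K))
    (hJ : ∀ x ∈ J, ∃ q, x.map (algebraMap R K) = f * q) (hJ' : ∀ x ∈ J', ∃ q, x.map (algebraMap R K) = f' * q)
    (fT : (↥T)[X]) (hfT : fT.map T.val.toRingHom = f) {E : Type u} [CommRing E] [Algebra R E] (ρ : ↥T →ₐ[R] E) :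
    J.map (mapRingHom (algebraMap R E)) = Ideal.span {fT.map ρ.toRingHom} ∧ (fT.map ρ.toRingHom).coeff 0 = 1 := by
  obtain ⟨v, hv⟩ := hQ0
  have hfC : ∀ i, f.coeff i ∈ T := fun i => by rw [← hfT, coeff_map]; exact (fT.coeff i).2
  have hRT : ∀ (p : R[X]) i, (p.map (algebraMap R K)).coeff i ∈ T := fun p i => by
    rw [coeff_map]; exact T.algebraMap_mem _
  have hf'C : ∀ i, f'.coeff i ∈ T := fun i =>
    coeff_mem_of_mul T hfC T.one_mem (by rw [hf0, one_mul]) (fun j => by rw [hfQ]; exact hRT Q j) i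
  have hf'0 : algebraMap R K ↑v⁻¹ * f'.coeff 0 = 1 := by
    have : f'.coeff 0 = algebraMap R K (Q.coeff 0) := by rw [← coeff_map, ← hfQ, mul_coeff_zero, hf0, one_mul]
    rw [this, ← map_mul, ← hv, Units.inv_mul, map_one]
  obtain ⟨f'T, hf'T⟩ := exists_map_eq T f' hf'C
  have hmapR : ∀ p : R[X], (p.map (algebraMap R ↥T)).map T.val.toRingHom = p.map (algebraMap R K) := fun p => by
    rw [Polynomial.map_map]; rfl
  have hmapE : ∀ p : R[X], (p.map (algebraMap R ↥T)).map ρ.toRingHom = p.map (algebraMap R E) := fun p => by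
    rw [Polynomial.map_map]; exact congrArg (fun φ => p.map φ) ρ.comp_algebraMap
  have hTinj : Function.Injective (Polynomial.map T.val.toRingHom) :=
    Polynomial.map_injective _ Subtype.val_injective
  have hQE : Q.map (algebraMap R E) = fT.map ρ.toRingHom * f'T.map ρ.toRingHom := by
    rw [← hmapE, show Q.map (algebraMap R ↥T) = fT * f'T from hTinj (by
      rw [hmapR, Polynomial.map_mul, hfT, hf'T, hfQ]), Polynomial.map_mul]
  have hone : (fT.map ρ.toRingHom).coeff 0 = 1 := by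
    rw [coeff_map, show fT.coeff 0 = 1 from Subtype.ext (by
      have := congrArg (fun p => p.coeff 0) hfT
      rw [coeff_map, hf0] at this
      exact this), map_one]
  refine ⟨eq_span_of_le (f' := f'T.map ρ.toRingHom) (I' := J'.map (mapRingHom (algebraMap R E))) ?_ ?_ ?_ ?_, hone⟩
  · refine regular_of_coeff_zero ?_
    have h2 := congrArg (fun p => p.coeff 0) hQE
    rw [mul_coeff_zero, hone, one_mul, coeff_map] at h2
    rw [← h2, ← hv]
    exact v.isUnit.map _
  · rw [Ideal.map_le_iff_le_comap]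
    intro x hx
    obtain ⟨q, hq⟩ := hJ x hx
    obtain ⟨qT, hqT⟩ := exists_map_eq T q
      (coeff_mem_of_mul T hfC T.one_mem (by rw [hf0, one_mul]) (fun j => hq ▸ hRT x j))
    rw [Ideal.mem_comap, coe_mapRingHom, ← hmapE, show x.map (algebraMap R ↥T) = fT * qT from hTinj (by
      rw [hmapR, Polynomial.map_mul, hfT, hqT, hq]), Polynomial.map_mul]
    exact Ideal.mul_mem_right _ _ (Ideal.mem_span_singleton_self _)
  · rw [Ideal.map_le_iff_le_comap]
    intro x hx
    obtain ⟨q, hq⟩ := hJ' x hx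
    obtain ⟨qT, hqT⟩ := exists_map_eq T q
      (coeff_mem_of_mul T hf'C (T.algebraMap_mem (↑v⁻¹ : R)) hf'0 (fun j => hq ▸ hRT x j))
    rw [Ideal.mem_comap, coe_mapRingHom, ← hmapE, show x.map (algebraMap R ↥T) = f'T * qT from hTinj (by
      rw [hmapR, Polynomial.map_mul, hf'T, hqT, hq]), Polynomial.map_mul]
    exact Ideal.mul_mem_right _ _ (Ideal.mem_span_singleton_self _)
  · rw [← Ideal.map_mul, hJJ, Ideal.map_span, Set.image_singleton, coe_mapRingHom, hQE]

/-- Two generators with constant term one of the same ideal agree. -/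
theorem coeff_eq_of_span_eq {k E : Type u} [Field k] [Field E] [Algebra R k] [Algebra R E] (χ : k →+* E)
    (hχ : χ.comp (algebraMap R k) = algebraMap R E) {J : Ideal R[X]} {h : k[X]} {g : E[X]}
    (hJk : J.map (mapRingHom (algebraMap R k)) = Ideal.span {h})
    (hJE : J.map (mapRingHom (algebraMap R E)) = Ideal.span {g}) (hh : h.coeff 0 = 1) (hg : g.coeff 0 = 1) :
    g = h.map χ := by
  have h1 : (J.map (mapRingHom (algebraMap R k))).map (mapRingHom χ) = J.map (mapRingHom (algebraMap R E)) := by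
    rw [Ideal.map_map, mapRingHom_comp, hχ]
  rw [hJE, hJk, Ideal.map_span, Set.image_singleton, coe_mapRingHom,
    Ideal.span_singleton_eq_span_singleton] at h1
  obtain ⟨u, hu⟩ := h1
  obtain ⟨c, hc, hcu⟩ := Polynomial.isUnit_iff.1 u.isUnit
  have h2 := congrArg (fun p => p.coeff 0) hu
  rw [← hcu, mul_comm, coeff_C_mul, coeff_map, hh, map_one, mul_one, hg] at h2
  rw [← hu, ← hcu, h2, map_one, mul_one]

theorem exists_rel_mem (p : Ideal R) [p.IsPrime] {T : Type u} [CommRing T] [Algebra R T] {J : Ideal R[X]}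
    (fT : T[X]) (hT : ∀ (E : Type u) [CommRing E] [Algebra R E] (ρ : T →ₐ[R] E),
      J.map (mapRingHom (algebraMap R E)) = Ideal.span {fT.map ρ.toRingHom} ∧ (fT.map ρ.toRingHom).coeff 0 = 1)
    (hk : ∃ h : (FractionRing (R ⧸ p))[X], h.coeff 0 = 1 ∧
      J.map (mapRingHom (algebraMap R (FractionRing (R ⧸ p)))) = Ideal.span {h}) (i : ℕ) :
    ∃ a b : R, b ∉ p ∧ ∀ P : Ideal T, P.IsPrime → P.comap (algebraMap R T) = p →
      algebraMap R T b * fT.coeff i - algebraMap R T a ∈ P := by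
  obtain ⟨h, hh0, hJk⟩ := hk
  obtain ⟨a', ⟨b', hb'⟩, hab⟩ := IsLocalization.exists_mk'_eq (nonZeroDivisors (R ⧸ p)) (h.coeff i)
  obtain ⟨a, rfl⟩ := Ideal.Quotient.mk_surjective a'
  obtain ⟨b, rfl⟩ := Ideal.Quotient.mk_surjective b'
  refine ⟨a, b, fun hb => nonZeroDivisors.ne_zero hb' (Ideal.Quotient.eq_zero_iff_mem.2 hb), fun P hP hPp => ?_⟩
  let E := FractionRing (T ⧸ P)
  let ρ : T →ₐ[R] E := (IsScalarTower.toAlgHom R (T ⧸ P) E).comp (Ideal.Quotient.mkₐ R P)
  have hker : ∀ x : T, ρ x = 0 → x ∈ P := fun x hx =>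
    Ideal.Quotient.eq_zero_iff_mem.1 ((map_eq_zero_iff _ (IsFractionRing.injective (T ⧸ P) E)).1 hx)
  have hker' : ∀ x ∈ P, ρ x = 0 := fun x hx => by
    simp [ρ, Ideal.Quotient.eq_zero_iff_mem.2 hx]
  have hp : ∀ r ∈ p, algebraMap R E r = 0 := fun r hr => by
    rw [← ρ.commutes]
    exact hker' _ (by rw [← Ideal.mem_comap, hPp]; exact hr)
  have hinjq : Function.Injective (Ideal.Quotient.lift p (algebraMap R E) hp) := by
    rw [injective_iff_map_eq_zero]
    intro r hr
    obtain ⟨r, rfl⟩ := Ideal.Quotient.mk_surjective r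
    rw [Ideal.Quotient.lift_mk, ← ρ.commutes] at hr
    rw [Ideal.Quotient.eq_zero_iff_mem, ← hPp, Ideal.mem_comap]
    exact hker _ hr
  have hχ : (IsFractionRing.lift hinjq : FractionRing (R ⧸ p) →+* E).comp (algebraMap R (FractionRing (R ⧸ p))) =
      algebraMap R E := RingHom.ext fun r => by
    rw [RingHom.comp_apply, IsScalarTower.algebraMap_apply R (R ⧸ p) (FractionRing (R ⧸ p)),
      IsFractionRing.lift_algebraMap, Ideal.Quotient.algebraMap_eq, Ideal.Quotient.lift_mk]
  obtain ⟨hJE, hg0⟩ := hT E ρ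
  have h4 := congrArg (fun q => q.coeff i) (coeff_eq_of_span_eq _ hχ hJk hJE hh0 hg0)
  simp only [coeff_map] at h4
  have h5 : algebraMap R E b * ρ (fT.coeff i) = algebraMap R E a := by
    have h6 := congrArg (IsFractionRing.lift hinjq) (IsLocalization.mk'_spec (FractionRing (R ⧸ p))
      (Ideal.Quotient.mk p a) ⟨Ideal.Quotient.mk p b, hb'⟩)
    rw [map_mul, hab, IsFractionRing.lift_algebraMap, IsFractionRing.lift_algebraMap, Ideal.Quotient.lift_mk,
      Ideal.Quotient.lift_mk, ← h4, mul_comm] at h6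
    exact h6
  refine hker _ ?_
  rw [map_sub, map_mul, AlgHom.commutes, AlgHom.commutes, h5, sub_self]

/-- A finite reduced extension of a seminormal ring without residual extension is trivial. -/
theorem mem_bot_of_locally {K : Type u} [CommRing K] [Algebra R K] [IsReduced K] (hR : HTop.IsSeminormalRing R)
    (hinj : Function.Injective (algebraMap R K)) {n : ℕ} (s : Fin n → K) (hs : ∀ i, IsIntegral R (s i))
    (hloc : ∀ (p : Ideal R) [p.IsPrime] (i : Fin n), ∃ a b : R, b ∉ p ∧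
      ∀ P : Ideal ↥(Algebra.adjoin R (Set.range s)), P.IsPrime → P.comap (algebraMap R _) = p →
        algebraMap R _ b * ⟨s i, Algebra.subset_adjoin ⟨i, rfl⟩⟩ - algebraMap R _ a ∈ P) (i : Fin n) :
    s i ∈ (⊥ : Subalgebra R K) := by
  classical
  set S := Algebra.adjoin R (Set.range s)
  let CS : Ideal ↥S :=
    { carrier := {s | ∀ t : ↥S, (s : K) * t ∈ (⊥ : Subalgebra R K)}
      zero_mem' := fun t => by simp
      add_mem' := fun {a b} ha hb t => by rw [S.coe_add, add_mul]; exact add_mem (ha t) (hb t)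
      smul_mem' := fun r s hs t => by
        rw [smul_eq_mul, S.coe_mul, mul_right_comm, mul_comm, ← S.coe_mul]; exact hs (r * t) }
  have hrad : ∀ (s : ↥S) (m : ℕ), s ^ m ∈ CS → s ∈ CS := by
    intro s m hs t
    refine mem_bot_of_pow_mem hR hinj _ m fun k hk => ?_
    have := hs (s ^ (k - m) * t ^ k)
    rw [S.coe_mul, S.coe_pow, S.coe_pow, S.coe_pow, ← mul_assoc, ← pow_add, Nat.add_sub_cancel' hk] at this
    rwa [mul_pow]
  suffices h1 : (1 : ↥S) ∈ CS by simpa using h1 ⟨_, Algebra.subset_adjoin ⟨i, rfl⟩⟩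
  by_contra hone
  have hne : CS.comap (algebraMap R ↥S) ≠ ⊤ := fun e => hone (by
    have : (1 : R) ∈ CS.comap (algebraMap R ↥S) := e ▸ Submodule.mem_top
    simpa using this)
  obtain ⟨m, hm, hcm⟩ := Ideal.exists_le_maximal _ hne
  obtain ⟨p, hp, -⟩ := Ideal.exists_minimalPrimes_le hcm
  haveI : p.IsPrime := hp.1.1
  have hgen : ∀ i, ∃ d : R, d ∉ p ∧ algebraMap R K d * s i ∈ (⊥ : Subalgebra R K) := by
    intro i
    obtain ⟨a, b, hbp, hxP⟩ := hloc p i
    let x : ↥S := algebraMap R ↥S b * ⟨s i, Algebra.subset_adjoin ⟨i, rfl⟩⟩ - algebraMap R ↥S a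
    have hex : ∃ e ∈ p.primeCompl, algebraMap R ↥S e * x ∈ CS := by
      by_contra hcon
      simp only [not_exists, not_and] at hcon
      let Mx : Submonoid ↥S := p.primeCompl.map (algebraMap R ↥S) ⊔ Submonoid.powers x
      have hdisj : Disjoint (CS : Set ↥S) (Mx : Set ↥S) := by
        rw [Set.disjoint_left]
        intro z hz hzM
        obtain ⟨_, ⟨e, he, rfl⟩, _, ⟨j, rfl⟩, rfl⟩ := Submonoid.mem_sup.1 hzM
        cases j with
        | zero =>
          refine hcon e he (Ideal.mul_mem_right _ _ ?_)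
          simpa using hz
        | succ j =>
          refine hcon e he (hrad _ (j + 1) ?_)
          rw [mul_pow, pow_succ (algebraMap R ↥S e), mul_assoc]
          exact Ideal.mul_mem_left _ _ hz
      obtain ⟨P, hP, hCP, hPd⟩ := Ideal.exists_le_prime_disjoint CS Mx hdisj
      have hnot : ∀ z ∈ Mx, z ∉ P := fun z hz hzP => Set.disjoint_left.1 hPd hzP hz
      have hle : P.comap (algebraMap R ↥S) ≤ p := fun r hr => of_not_not fun hrp =>
        hnot _ (Submonoid.mem_sup_left ⟨r, hrp, rfl⟩) hr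
      have heq : P.comap (algebraMap R ↥S) = p :=
        le_antisymm hle (hp.2 ⟨inferInstance, Ideal.comap_mono hCP⟩ hle)
      exact hnot x (Submonoid.mem_sup_right (Submonoid.mem_powers x)) (hxP P hP heq)
    obtain ⟨e, he, hex⟩ := hex
    refine ⟨e * b, fun h => (Ideal.IsPrime.mem_or_mem inferInstance h).elim he hbp, ?_⟩
    have h6 := add_mem (hex 1) (Subalgebra.algebraMap_mem (⊥ : Subalgebra R K) (e * a))
    simp only [x, S.coe_one, mul_one, S.coe_mul, S.coe_algebraMap, AddSubgroupClass.coe_sub, map_mul] at h6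
    rw [map_mul]
    convert h6 using 1
    ring
  choose d hdp hd using hgen
  let D := ∏ i : Fin n, d i
  have hD : D ∉ p := fun h => by
    obtain ⟨i, -, hi⟩ := (Ideal.IsPrime.prod_mem_iff (p := p)).1 h
    exact hdp i hi
  have hall : ∀ z ∈ S, ∃ N : ℕ, algebraMap R K (D ^ N) * z ∈ (⊥ : Subalgebra R K) := by
    intro z hz
    induction hz using Algebra.adjoin_induction with
    | mem z hz =>
      obtain ⟨i, rfl⟩ := hz
      refine ⟨1, ?_⟩
      rw [pow_one, show D = d i * ∏ j ∈ Finset.univ.erase i, d j from (Finset.mul_prod_erase _ _ (Finset.mem_univ i)).symm, map_mul, mul_right_comm]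
      exact mul_mem (hd i) (Subalgebra.algebraMap_mem _ _)
    | algebraMap r => exact ⟨0, by rw [pow_zero, map_one, one_mul]; exact Subalgebra.algebraMap_mem _ _⟩
    | add a b _ _ ha hb =>
      obtain ⟨N, hN⟩ := ha
      obtain ⟨M, hM⟩ := hb
      refine ⟨N + M, ?_⟩
      rw [mul_add, pow_add, map_mul]
      refine add_mem ?_ ?_
      · rw [mul_right_comm]; exact mul_mem hN (Subalgebra.algebraMap_mem _ _)
      · rw [mul_assoc]; exact mul_mem (Subalgebra.algebraMap_mem _ _) hM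
    | mul a b _ _ ha hb =>
      obtain ⟨N, hN⟩ := ha
      obtain ⟨M, hM⟩ := hb
      refine ⟨N + M, ?_⟩
      rw [pow_add, map_mul, mul_mul_mul_comm]
      exact mul_mem hN hM
  haveI : Module.Finite R ↥S :=
    ⟨(Submodule.fg_top _).2 (fg_adjoin_of_finite (Set.finite_range _) (by rintro _ ⟨i, rfl⟩; exact hs i))⟩
  obtain ⟨t, ht⟩ := (inferInstance : Module.Finite R ↥S)
  choose N hN using fun z : ↥S => hall z z.2
  let Nm := ∑ z ∈ t, N z
  have hDCS : algebraMap R ↥S (D ^ Nm) ∈ CS := by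
    intro z
    have hz : z ∈ Submodule.span R (t : Set ↥S) := ht ▸ Submodule.mem_top
    rw [S.coe_algebraMap]
    induction hz using Submodule.span_induction with
    | mem z hz =>
      obtain ⟨j, hj⟩ := Nat.exists_eq_add_of_le (Finset.single_le_sum (fun z _ => Nat.zero_le (N z)) hz)
      rw [show Nm = N z + j from hj, pow_add, map_mul, mul_right_comm]
      exact mul_mem (hN z) (Subalgebra.algebraMap_mem _ _)
    | zero => simp
    | add a b _ _ ha hb => rw [S.coe_add, mul_add]; exact add_mem ha hb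
    | smul r a _ ha => rw [S.coe_smul, mul_smul_comm]; exact Subalgebra.smul_mem _ ha r
  exact hD ((inferInstance : p.IsPrime).mem_of_pow_mem Nm (hp.1.2 hDCS))

theorem exists_eq_span (hR : HTop.IsSeminormalRing R) (J J' : Ideal R[X]) (Q : R[X])
    (hQ0 : IsUnit (Q.coeff 0)) (hJJ : J * J' = Ideal.span {Q}) :
    ∃ f : R[X], f.coeff 0 = 1 ∧ J = Ideal.span {f} := by
  classical
  haveI : IsReduced R := HTopAwn.isReduced_of_seminormal hR
  obtain ⟨K, _, _, hred, hinj, f, f', hf0, hfQ, hint, hJ, hJ'⟩ := exists_factor J J' Q hQ0 hJJ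
  let s : Fin (f.natDegree + 1) → K := fun i => f.coeff i
  have hfS : ∀ i, f.coeff i ∈ Algebra.adjoin R (Set.range s) := fun i => by
    by_cases hi : i < f.natDegree + 1
    · exact Algebra.subset_adjoin ⟨⟨i, hi⟩, rfl⟩
    · rw [coeff_eq_zero_of_natDegree_lt (by omega)]; exact Subalgebra.zero_mem _
  obtain ⟨fS, hfS'⟩ := exists_map_eq _ f hfS
  have hbot : ∀ i : Fin (f.natDegree + 1), s i ∈ (⊥ : Subalgebra R K) := by
    refine mem_bot_of_locally hR hinj s (fun i => hint _) fun p _ i => ?_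
    obtain ⟨h, h', hh0, -, -, -, hhJ, -⟩ := exists_normalized (algebraMap R (FractionRing (R ⧸ p))) J J' Q hQ0 hJJ
    obtain ⟨a, b, hb, hab⟩ := exists_rel_mem p fS
      (fun E _ _ ρ => map_eq_span_of_subalgebra _ hQ0 hJJ hf0 hfQ hJ hJ' fS hfS' ρ) ⟨h, hh0, hhJ⟩ i
    refine ⟨a, b, hb, fun P hP hPp => ?_⟩
    have he : fS.coeff (i : ℕ) = ⟨s i, Algebra.subset_adjoin ⟨i, rfl⟩⟩ := Subtype.ext (by
      have := congrArg (fun q => q.coeff (i : ℕ)) hfS'
      rw [coeff_map] at this
      exact this)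
    rw [← he]
    exact hab P hP hPp
  have hbot' : ∀ i, f.coeff i ∈ (⊥ : Subalgebra R K) := fun i => by
    by_cases hi : i < f.natDegree + 1
    · exact hbot ⟨i, hi⟩
    · rw [coeff_eq_zero_of_natDegree_lt (by omega)]; exact Subalgebra.zero_mem _
  obtain ⟨fB, hfB⟩ := exists_map_eq _ f hbot'
  obtain ⟨h1, h2⟩ := map_eq_span_of_subalgebra ⊥ hQ0 hJJ hf0 hfQ hJ hJ' fB hfB
    (Algebra.botEquivOfInjective hinj).toAlgHom
  refine ⟨_, h2, ?_⟩
  rw [← h1, Algebra.algebraMap_self, mapRingHom_id, Ideal.map_id]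

end Groth.Agent.H1PicInv
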